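import Groth.Agent.KosTwist.Main
import Groth.Agent.LocFree.Basic
import Groth.Agent.NegTwist.Basic
import Groth.Prelude.Def_KoszTw

/-!
Sections of a twisted Koszul complex over small affine opens.
-/

universe u

open CategoryTheory CategoryTheory.Limits AlgebraicGeometry TopologicalSpace Opposite

set_option autoImplicit false
set_option backward.isDefEq.respectTransparency false
set_option backward.isDefEq.respectTransparency.types false
set_option linter.style.haveILetI false
set_option maxHeartbeats 1000000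

noncomputable section

namespace Groth.Agent.KoszTwLib

open Groth.Agent.QC
open Groth.Agent.KosTwist (hom_ext_basis smul_inj_of_basis map_bijective)

variable {X : Scheme.{u}}

/-- Affine opens over which `F` is free and `L` has a generator. -/
def IsChart (F L : X.Modules) (U : X.Opens) : Prop :=
  IsAffineOpen U ∧ (∃ e : Γ(L, U), TMul.IsGen e) ∧
    ∃ n : ℕ, Nonempty (Module.Basis (Fin n) Γ(X, U) Γ(F, U))

theorem isBasisFam_isChart {F L : X.Modules} (hF : FlatMod.IsFinLocFree F) (hL : PicF.IsInvertible L) :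
    Conormal.IsBasisFam {U | IsChart F L U} := by
  intro O z hz
  obtain ⟨W₁, e, hz₁, he⟩ := TMul.exists_isGen hL z
  obtain ⟨W₂, n, hz₂, ⟨φ⟩⟩ := hF z
  obtain ⟨U, hzU, hU⟩ := KosExt.exists_affine_le (O := O ⊓ (W₁ ⊓ W₂)) (x := z) ⟨hz, hz₁, hz₂⟩
  refine ⟨U.1, ⟨U.2, ⟨_, he.res (hU.trans (inf_le_right.trans inf_le_left))⟩, n, ?_⟩,
    hU.trans inf_le_left, hzU⟩
  obtain ⟨b⟩ := LocFree.exists_basis_sections_of_le φ U.2 (hU.trans (inf_le_right.trans inf_le_right))
  exact ⟨b.reindex Equiv.ulift⟩

theorem tprod_eq_pw (L : X.Modules) {U : X.Opens} (e : Γ(L, U)) :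
    ∀ p : ℕ, KoszTw.tprod L p U (fun _ => e) = TMul.pw e p
  | 0 => rfl
  | p + 1 => congrArg (fun q => TMul.tm q e) (tprod_eq_pw L e p)

lemma tm_bij (M : X.Modules) {N : X.Modules} {U : X.Opens} {e : Γ(N, U)} (he : TMul.IsGen e) :
    Function.Bijective fun m : Γ(M, U) => TMul.tm m e := by
  have h := TMul.tm_bijective (M := M) he U le_rfl
  simpa only [res_self] using h

/-- Tensoring with a fixed section, as a linear map. -/
def tmL (M : X.Modules) {N : X.Modules} {U : X.Opens} (e : Γ(N, U)) :
    Γ(M, U) →ₗ[Γ(X, U)] Γ(CohB1.tensorMod M N, U) where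
  toFun m := TMul.tm m e
  map_add' a b := TMul.tm_add a b e
  map_smul' r m := TMul.smul_tm r m e

section Twist

variable {F L : X.Modules} {U : X.affineOpens} {e : Γ(L, U.1)} (he : TMul.IsGen e)

/-- Tensoring with a generator. -/
def tmE : Γ(F, U.1) ≃ₗ[Γ(X, U.1)] Γ(CohB1.tensorMod F L, U.1) :=
  LinearEquiv.ofBijective (tmL F e) (tm_bij F he)

variable {s : F ⟶ Coh.structureModule X} {t : CohB1.tensorMod F L ⟶ Coh.structureModule X}
  (C : KoszSh.Cx F s) (D : KoszSh.Cx (CohB1.tensorMod F L) t)

/-- The untwisting of the exterior powers over a chart. -/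
def untw (p : ℕ) : Γ(D.K.X p, U.1) ≃ₗ[Γ(X, U.1)] Γ(C.K.X p, U.1) :=
  (D.loc p U).trans ((LinearEquiv.ofBijective (exteriorPower.map p (tmE (F := F) he).symm.toLinearMap)
    (map_bijective (tmE (F := F) he).symm p)).trans (C.loc p U).symm)

lemma untw_ιMulti (p : ℕ) (f : Fin p → Γ(F, U.1)) :
    untw he C D p ((D.loc p U).symm (exteriorPower.ιMulti _ p fun i => TMul.tm (f i) e)) =
      (C.loc p U).symm (exteriorPower.ιMulti _ p f) := by
  show (C.loc p U).symm (exteriorPower.map p _ (D.loc p U ((D.loc p U).symm _))) = _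
  rw [LinearEquiv.apply_symm_apply, exteriorPower.map_apply_ιMulti]
  exact congrArg (fun v => (C.loc p U).symm (exteriorPower.ιMulti _ p v))
    (funext fun i => (tmE (F := F) he).symm_apply_apply (f i))

/-- Maps out of a twisted term are determined on the decomposable elements. -/
lemma ext_twisted (he : TMul.IsGen e) {p : ℕ} {V : Type*} [AddCommGroup V] [Module Γ(X, U.1) V]
    {φ ψ : Γ(D.K.X p, U.1) →ₗ[Γ(X, U.1)] V}
    (h : ∀ f : Fin p → Γ(F, U.1),
      φ ((D.loc p U).symm (exteriorPower.ιMulti _ p fun i => TMul.tm (f i) e)) =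
        ψ ((D.loc p U).symm (exteriorPower.ιMulti _ p fun i => TMul.tm (f i) e))) : φ = ψ := by
  have h1 : φ ∘ₗ (D.loc p U).symm.toLinearMap = ψ ∘ₗ (D.loc p U).symm.toLinearMap := by
    refine exteriorPower.linearMap_ext (AlternatingMap.ext fun v => ?_)
    choose f hf using fun i => (tm_bij F he).2 (v i)
    have hv : v = fun i => TMul.tm (f i) e := funext fun i => (hf i).symm
    subst hv
    exact h f
  refine LinearMap.ext fun w => ?_
  have h2 := LinearMap.congr_fun h1 (D.loc p U w)
  simp only [LinearMap.comp_apply, LinearEquiv.coe_coe, LinearEquiv.symm_apply_apply] at h2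
  exact h2

theorem app_iso {p : ℕ} (θ : KoszTw.CxDecData C D p) (w : Γ(D.K.X p, U.1)) :
    θ.iso.hom.app U.1 w = TMul.tm (untw he C D p w) (TMul.pw e p) := by
  have : appₗ θ.iso.hom U.1 = tmL (C.K.X p) (TMul.pw e p) ∘ₗ (untw he C D p).toLinearMap :=
    ext_twisted D he fun f => by
      refine (θ.rule U f fun _ => e).trans ?_
      show _ = TMul.tm (untw he C D p _) (TMul.pw e p)
      rw [untw_ιMulti, tprod_eq_pw]
      rfl
  exact LinearMap.congr_fun this w

variable (lam : Coh.structureModule X ⟶ L) {c : Γ(X, U.1)}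

theorem secForm_triangle (htri : KoszTw.TwistTriangle s lam t) (hc : TMul.val lam U.1 = c • e)
    (he : TMul.IsGen e) (f : Γ(F, U.1)) :
    KoszSh.secForm s U.1 f = c * KoszSh.secForm t U.1 (TMul.tm f e) := by
  have h := htri U.1 f e
  rw [show lam.app U.1 (t.app U.1 (SecTwist.tmul F L U.1 f e)) =
    KoszSh.secForm t U.1 (TMul.tm f e) • TMul.val lam U.1 from TMul.app_eq_smul lam _] at h
  rw [hc, smul_smul, mul_comm] at h
  refine ((he U.1 le_rfl).1 ?_).symm
  simpa only [res_self] using h

/-- The differentials agree up to the coefficient of the section. -/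
theorem d_untw (htri : KoszTw.TwistTriangle s lam t) (hc : TMul.val lam U.1 = c • e) (p : ℕ)
    (w : Γ(D.K.X (p + 1), U.1)) :
    (C.K.d (p + 1) p).app U.1 (untw he C D (p + 1) w) =
      c • untw he C D p ((D.K.d (p + 1) p).app U.1 w) := by
  have : appₗ (C.K.d (p + 1) p) U.1 ∘ₗ (untw he C D (p + 1)).toLinearMap =
      c • ((untw he C D p).toLinearMap ∘ₗ appₗ (D.K.d (p + 1) p) U.1) :=
    ext_twisted D he fun f => by
      show (C.K.d (p + 1) p).app U.1 (untw he C D (p + 1) _) =
        c • untw he C D p ((D.K.d (p + 1) p).app U.1 _)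
      rw [untw_ιMulti, C.rule, D.rule]
      simp only [KoszSh.dGen, map_sum, map_smul, untw_ιMulti, Finset.smul_sum, smul_smul]
      refine Finset.sum_congr rfl fun i _ => ?_
      rw [secForm_triangle lam htri hc he]
      congr 1
      ring
  exact LinearMap.congr_fun this w

end Twist

lemma exists_coeff {L : X.Modules} {U : X.Opens} {e : Γ(L, U)} (he : TMul.IsGen e)
    (lam : Coh.structureModule X ⟶ L) : ∃ c : Γ(X, U), TMul.val lam U = c • e := by
  obtain ⟨c, hc⟩ := (he U le_rfl).2 (TMul.val lam U)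
  simp only [res_self] at hc
  exact ⟨c, hc.symm⟩

theorem mem_nonZeroDivisors_coeff {L : X.Modules} {U : X.Opens} {e : Γ(L, U)}
    (lam : Coh.structureModule X ⟶ L) [Mono lam] {c : Γ(X, U)} (hc : TMul.val lam U = c • e) :
    c ∈ nonZeroDivisors Γ(X, U) := by
  rw [mem_nonZeroDivisors_iff_right]
  intro r hr
  refine app_injective_of_mono lam U (a₁ := r) (a₂ := 0) ?_
  rw [TMul.app_eq_smul, hc, smul_smul, hr, zero_smul, map_zero]

theorem kernelSubobject_le {A B B' : X.Modules} (g : A ⟶ B) (h : A ⟶ B') {S : Set X.Opens}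
    (hS : Conormal.IsBasisFam S) (hgh : ∀ U ∈ S, ∀ w, g.app U w = 0 → h.app U w = 0) :
    Limits.kernelSubobject g ≤ Limits.kernelSubobject h := by
  refine Limits.le_kernelSubobject h _ (hom_ext_basis hS fun U hU x => ?_)
  exact hgh U hU _ congr(($(Limits.kernelSubobject_arrow_comp g)).app U x)

theorem imageSubobject_le_of_sections {A A' B : X.Modules} (f : A ⟶ B) (g : A' ⟶ B) {S : Set X.Opens}
    (hS : Conormal.IsBasisFam S) (hfg : ∀ U ∈ S, ∀ a, ∃ a', g.app U a' = f.app U a) :
    Limits.imageSubobject f ≤ Limits.imageSubobject g := by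
  have h0 : f ≫ cokernel.π (Limits.imageSubobject g).arrow = 0 := hom_ext_basis hS fun U hU a => by
    obtain ⟨a', ha'⟩ := hfg U hU a
    have h1 : g ≫ cokernel.π (Limits.imageSubobject g).arrow = 0 := by
      conv_lhs => arg 1; rw [← Limits.imageSubobject_arrow_comp g]
      rw [Category.assoc, cokernel.condition, comp_zero]
    show (cokernel.π (Limits.imageSubobject g).arrow).app U (f.app U a) = 0
    rw [← ha']
    exact congr(($h1).app U a')
  exact Limits.imageSubobject_le f (Abelian.monoLift _ f h0) (Abelian.monoLift_comp _ f h0)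

end Groth.Agent.KoszTwLib
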